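import Groth.Agent.GrpSch.Neutral
import Groth.Prelude.Def_SGA3x
import Mathlib.AlgebraicGeometry.Fiber

/-!
# The union of the neutral components of the fibres of a group scheme
-/

set_option autoImplicit false
set_option backward.isDefEq.respectTransparency.types false

universe u

open CategoryTheory MonoidalCategory CartesianMonoidalCategory MonObj GrpObj Limits AlgebraicGeometry
open Groth.Agent.GrpSch
open scoped CategoryTheory.Obj

namespace Groth.Agent.Neutral0

variable {S : Scheme.{u}} {K : Type u} [Field K] (σ : Spec (CommRingCat.of K) ⟶ S) (G : Over S)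

/-- The base change of `G` to a field-valued point of the base. -/
noncomputable abbrev GK : Over (Spec (CommRingCat.of K)) := (Over.pullback σ).obj G

/-- The projection of the base change. -/
noncomputable abbrev pr : (GK σ G).left ⟶ G.left := pullback.fst G.hom σ

/-- The residue field point. -/
noncomputable abbrev fromPt (s : S) : Spec (CommRingCat.of ↑(S.residueField s)) ⟶ S :=
  S.fromSpecResidueField s

variable {σ G}

/-- A field-valued point of `T` over `σ` as a section of the base change. -/
noncomputable def sec {T : Over S} (q : Spec (CommRingCat.of K) ⟶ T.left) (hq : q ≫ T.hom = σ) :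
    𝟙_ (Over (Spec (CommRingCat.of K))) ⟶ (Over.pullback σ).obj T :=
  Over.homMk (pullback.lift q (𝟙 _) (by simp [hq])) (pullback.lift_snd _ _ _)

lemma sec_map_fst {T : Over S} (q : Spec (CommRingCat.of K) ⟶ T.left) (hq : q ≫ T.hom = σ)
    (g : T ⟶ G) : (sec q hq ≫ (Over.pullback σ).map g).left ≫ pr σ G = q ≫ g.left := by
  have h1 : ((Over.pullback σ).map g).left ≫ pr σ G = pullback.fst T.hom σ ≫ g.left :=
    pullback.lift_fst _ _ _
  have h2 : (sec q hq).left ≫ pullback.fst T.hom σ = q := pullback.lift_fst _ _ _
  rw [Over.comp_left, Category.assoc, h1, ← Category.assoc, h2]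

variable [GrpObj G]

lemma one_fst : η[GK σ G].left ≫ pr σ G = σ ≫ η[G].left := by
  have hq : σ ≫ (𝟙_ (Over S)).hom = σ := Category.comp_id σ
  have h1 : sec (T := 𝟙_ (Over S)) σ hq ≫ (Over.pullback σ).map (1 : 𝟙_ (Over S) ⟶ G) = η[GK σ G] := by
    rw [Functor.map_one, MonObj.comp_one, one_eq_toUnit, toUnit_unique (toUnit _) (𝟙 _),
      Category.id_comp]
  have h2 : (1 : 𝟙_ (Over S) ⟶ G) = η[G] := by
    rw [one_eq_toUnit, toUnit_unique (toUnit _) (𝟙 _), Category.id_comp]
  rw [← h1, sec_map_fst, h2]

lemma pr_one (c : ↥(Spec (CommRingCat.of K))) :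
    pr σ G (η[GK σ G].left c) = η[G].left (σ c) :=
  congrArg (fun (f : Spec (CommRingCat.of K) ⟶ G.left) => f c) (one_fst (σ := σ) (G := G))

lemma hom_one (s : S) : G.hom (η[G].left s) = s :=
  congrArg (fun (f : S ⟶ S) => f s) (Over.w η[G])

lemma hom_pr (z : (GK σ G).left) : G.hom (pr σ G z) = σ (IsLocalRing.closedPoint K) := by
  rw [← Subsingleton.elim (α := PrimeSpectrum K) ((GK σ G).hom z) (IsLocalRing.closedPoint K)]
  exact congrArg (fun (f : (GK σ G).left ⟶ S) => f z) pullback.condition

end Groth.Agent.Neutral0

namespace Groth.Agent.Neutral0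

/-- The image of a connected component under an embedding. -/
lemma image_connectedComponent {α β : Type*} [TopologicalSpace α] [TopologicalSpace β] {f : α → β}
    (hf : Topology.IsEmbedding f) (x : α) :
    f '' connectedComponent x = connectedComponentIn (Set.range f) (f x) := by
  refine Set.Subset.antisymm ?_ ?_
  · exact (isPreconnected_connectedComponent.image f hf.continuous.continuousOn).subset_connectedComponentIn
      ⟨x, mem_connectedComponent, rfl⟩ (Set.image_subset_range _ _)
  · have hsub := connectedComponentIn_subset (Set.range f) (f x)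
    have hpre : IsPreconnected (f ⁻¹' connectedComponentIn (Set.range f) (f x)) := by
      rw [← hf.isInducing.isPreconnected_image, Set.image_preimage_eq_of_subset hsub]
      exact isPreconnected_connectedComponentIn
    conv_lhs => rw [← Set.image_preimage_eq_of_subset hsub]
    exact Set.image_mono (hpre.subset_connectedComponent (mem_connectedComponentIn ⟨x, rfl⟩))

variable {S : Scheme.{u}} {G : Over S} [GrpObj G]

lemma mem_neutralSet {x : G.left} :
    x ∈ SGA3x.neutralSet G ↔
      x ∈ connectedComponentIn (G.hom ⁻¹' {G.hom x}) (η[G].left (G.hom x)) := by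
  constructor
  · intro hx
    obtain ⟨p, hp⟩ := Set.mem_iUnion.1 hx
    have h := connectedComponentIn_subset _ _ hp
    have h' : G.hom x = p := h
    rw [h']
    exact hp
  · exact fun h => Set.mem_iUnion.2 ⟨G.hom x, h⟩

lemma neutralSet_inter_fibre (s : S) :
    SGA3x.neutralSet G ∩ G.hom ⁻¹' {s} = connectedComponentIn (G.hom ⁻¹' {s}) (η[G].left s) := by
  ext x
  refine ⟨?_, fun h => ?_⟩
  · rintro ⟨hx, rfl : G.hom x = s⟩
    exact mem_neutralSet.1 hx
  · have h'' := connectedComponentIn_subset (G.hom.base ⁻¹' ({s} : Set S)) _ h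
    have h' : G.hom x = s := h''
    exact ⟨mem_neutralSet.2 (h'.symm ▸ h), h'⟩

lemma range_pr (s : S) : Set.range (pr (fromPt s) G) = G.hom ⁻¹' {s} := by
  rw [Scheme.Pullback.range_fst]
  exact congrArg _ (S.range_fromSpecResidueField s)

lemma preimage_neutralSet_fibre (s : S) :
    pr (fromPt s) G ⁻¹' SGA3x.neutralSet G =
      connectedComponent (η[GK (fromPt s) G].left
        (IsLocalRing.closedPoint (S.residueField s))) := by
  set σ := fromPt s
  have hemb : Topology.IsEmbedding (pr σ G) := (pullback.fst G.hom σ).isEmbedding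
  have hs : σ (IsLocalRing.closedPoint (S.residueField s)) = s := S.fromSpecResidueField_apply s _
  have h := image_connectedComponent hemb (η[GK σ G].left (IsLocalRing.closedPoint (S.residueField s)))
  rw [pr_one, hs, range_pr] at h
  rw [← neutralSet_inter_fibre, ← range_pr s] at h
  rw [← Set.preimage_inter_range, ← h, Set.preimage_image_eq _ hemb.injective]

section Field

variable {k : Type u} [Field k] (H : Over (Spec (CommRingCat.of k))) [GrpObj H]
  [LocallyOfFiniteType H.hom] {K : Type u} [Field K] (t : Spec (CommRingCat.of K) ⟶ Spec (CommRingCat.of k))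

/-- The neutral component is geometrically connected. -/
theorem preimage_component :
    pr t H ⁻¹' connectedComponent (η[H].left (IsLocalRing.closedPoint k)) =
      connectedComponent (η[GK t H].left (IsLocalRing.closedPoint K)) := by
  obtain ⟨H₀, _, i, _, _, _, hrange, _, _, _⟩ := exists_neutralComponent H
  let c : pullback H₀.hom t ⟶ (GK t H).left :=
    pullback.map _ _ _ _ i.left (𝟙 _) (𝟙 _) (by rw [Category.comp_id]; exact (Over.w i).symm) (by simp)
  have hc : Set.range c = pr t H ⁻¹' Set.range i.left := by
    have := Scheme.Pullback.range_map H₀.hom t H.hom t i.left (𝟙 _) (𝟙 _)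
      (by rw [Category.comp_id]; exact (Over.w i).symm) (by simp)
    rw [this]
    simp [pr]
  have : IrreducibleSpace ↥(pullback H₀.hom t) := inferInstance
  have hpt : pr t H (η[GK t H].left (IsLocalRing.closedPoint K)) =
      η[H].left (IsLocalRing.closedPoint k) := by
    rw [pr_one, Subsingleton.elim (α := PrimeSpectrum k) (t _) (IsLocalRing.closedPoint k)]
  refine Set.Subset.antisymm ?_ ?_
  · rw [← hrange, ← hc]
    refine (isPreconnected_range c.continuous).subset_connectedComponent ?_
    rw [hc, hrange, Set.mem_preimage, hpt]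
    exact mem_connectedComponent
  · intro z hz
    rw [Set.mem_preimage, ← hpt]
    exact (pr t H).continuous.image_connectedComponent_subset _ ⟨z, hz, rfl⟩

end Field

variable {K : Type u} [Field K] (σ : Spec (CommRingCat.of K) ⟶ S)
  (hG : ∀ s : S, LocallyOfFiniteType (G.hom.fiberToSpecResidueField s))

include hG

lemma exists_factor :
    ∃ t : Spec (CommRingCat.of K) ⟶ Spec (S.residueField (σ (IsLocalRing.closedPoint K))),
      t ≫ S.fromSpecResidueField (σ (IsLocalRing.closedPoint K)) = σ :=
  ⟨_, Scheme.descResidueField_stalkClosedPointTo_fromSpecResidueField K S σ⟩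

lemma locallyOfFiniteType_GK : LocallyOfFiniteType (GK σ G).hom := by
  obtain ⟨t, ht⟩ := exists_factor σ hG
  have := hG (σ (IsLocalRing.closedPoint K))
  have h : LocallyOfFiniteType (pullback.snd (pullback.snd G.hom
      (S.fromSpecResidueField (σ (IsLocalRing.closedPoint K)))) t) :=
    MorphismProperty.pullback_snd _ _ this
  rw [← pullbackLeftPullbackSndIso_hom_snd,
    MorphismProperty.cancel_left_of_respectsIso (P := @LocallyOfFiniteType)] at h
  show LocallyOfFiniteType (pullback.snd G.hom σ)
  rw [← ht]
  exact h

/-- In the base change to any field-valued point of the base, the neutral set is the neutral component. -/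
theorem preimage_neutralSet :
    pr σ G ⁻¹' SGA3x.neutralSet G =
      connectedComponent (η[GK σ G].left (IsLocalRing.closedPoint K)) := by
  let s := σ (IsLocalRing.closedPoint K)
  let σs := fromPt s
  obtain ⟨(t : Spec (CommRingCat.of K) ⟶ Spec (CommRingCat.of (S.residueField s))),
    (ht : t ≫ σs = σ)⟩ := exists_factor σ hG
  let Gs : Over (Spec (CommRingCat.of (S.residueField s))) := GK σs G
  have : LocallyOfFiniteType Gs.hom := hG s
  have hC := preimage_component (k := S.residueField s) Gs t
  rw [← preimage_neutralSet_fibre s] at hC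
  refine Set.Subset.antisymm ?_ ?_
  · let φ : (GK t Gs).left ⟶ (GK σ G).left :=
      pullback.lift (pr t Gs ≫ pr σs G) (pullback.snd Gs.hom t) (by
        rw [Category.assoc]
        show pr t Gs ≫ pullback.fst G.hom σs ≫ G.hom = _
        rw [pullback.condition, ← Category.assoc]
        show (pullback.fst Gs.hom t ≫ Gs.hom) ≫ σs = _
        rw [pullback.condition, Category.assoc, ht])
    have hφ : φ ≫ pr σ G = pr t Gs ≫ pr σs G := pullback.lift_fst _ _ _
    have hφ' : φ ≫ pullback.snd G.hom σ = pullback.snd Gs.hom t := pullback.lift_snd _ _ _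
    have he : η[GK t Gs].left ≫ φ = η[GK σ G].left := by
      apply pullback.hom_ext
      · rw [Category.assoc, hφ, ← Category.assoc, one_fst, Category.assoc, one_fst, ← Category.assoc,
          ht]
        exact (one_fst (σ := σ) (G := G)).symm
      · rw [Category.assoc, hφ']
        exact (Over.w η[GK t Gs]).trans (Over.w η[GK σ G]).symm
    have hsurj : Function.Surjective φ := by
      let ψ : (GK σ G).left ⟶ (GK t Gs).left :=
        pullback.lift (pullback.lift (pr σ G) (pullback.snd G.hom σ ≫ t) (by
          rw [Category.assoc, ht]; exact pullback.condition)) (pullback.snd G.hom σ) (by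
          exact pullback.lift_snd _ _ _)
      have h : ψ ≫ φ = 𝟙 _ := by
        apply pullback.hom_ext
        · rw [Category.assoc, hφ, ← Category.assoc, pullback.lift_fst, pullback.lift_fst, Category.id_comp]
        · rw [Category.assoc, hφ', pullback.lift_snd, Category.id_comp]
      exact fun z => ⟨ψ z, congrArg (fun (f : (GK σ G).left ⟶ (GK σ G).left) => f z) h⟩
    intro z hz
    obtain ⟨w, rfl⟩ := hsurj z
    have hw : w ∈ pr t Gs ⁻¹' (pr σs G ⁻¹' SGA3x.neutralSet G) := by
      have : pr σ G (φ w) = pr σs G (pr t Gs w) :=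
        congrArg (fun (f : (GK t Gs).left ⟶ G.left) => f w) hφ
      rw [Set.mem_preimage, this] at hz
      exact hz
    rw [hC] at hw
    have := φ.continuous.image_connectedComponent_subset _ ⟨w, hw, rfl⟩
    rwa [show φ (η[GK t Gs].left (IsLocalRing.closedPoint K)) =
      η[GK σ G].left (IsLocalRing.closedPoint K) from
      congrArg (fun (f : Spec (CommRingCat.of K) ⟶ (GK σ G).left) => f (IsLocalRing.closedPoint K)) he] at this
  · rintro z hz
    rw [Set.mem_preimage, mem_neutralSet, hom_pr]
    refine (isPreconnected_connectedComponent.image _ (pr σ G).continuous.continuousOn).subset_connectedComponentIn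
      ⟨_, mem_connectedComponent, pr_one _⟩ ?_ ⟨z, hz, rfl⟩
    rintro _ ⟨w, _, rfl⟩
    exact hom_pr w

end Groth.Agent.Neutral0
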