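import Groth.Agent.Neutral0.Basic
import Groth.Agent.GrpSch.DenseMul
import Groth.Agent.GrpSch.Points
import Mathlib.AlgebraicGeometry.Morphisms.QuasiSeparated
import Mathlib.AlgebraicGeometry.Morphisms.UniversallyOpen
import Mathlib.AlgebraicGeometry.Morphisms.Integral
import Mathlib.FieldTheory.IsAlgClosed.AlgebraicClosure

/-!
# The neutral set is a subgroup; quasi-compactness of components
-/

set_option autoImplicit false
set_option backward.isDefEq.respectTransparency.types false

universe u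

open CategoryTheory MonoidalCategory CartesianMonoidalCategory MonObj GrpObj Limits AlgebraicGeometry
open Groth.Agent.GrpSch
open scoped CategoryTheory.Obj

namespace Groth.Agent.Neutral0

section Field

variable {k : Type u} [Field k] {H : Over (Spec (CommRingCat.of k))} [GrpObj H]
  [LocallyOfFiniteType H.hom]

lemma mul_inv_mem (a b : 𝟙_ (Over (Spec (CommRingCat.of k))) ⟶ H) (c : Spec (CommRingCat.of k))
    (ha : a.left c ∈ connectedComponent (η[H].left (IsLocalRing.closedPoint k)))
    (hb : b.left c ∈ connectedComponent (η[H].left (IsLocalRing.closedPoint k))) :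
    (a * b⁻¹).left c ∈ connectedComponent (η[H].left (IsLocalRing.closedPoint k)) := by
  obtain ⟨H₀, _, i, _, hi, _, hr, _⟩ := exists_neutralComponent H
  have fac : ∀ d : 𝟙_ (Over (Spec (CommRingCat.of k))) ⟶ H, d.left c ∈ Set.range i.left →
      ∃ d₀ : 𝟙_ (Over (Spec (CommRingCat.of k))) ⟶ H₀, d₀ ≫ i = d := by
    intro d hd
    have hsub : Set.range d.left ⊆ Set.range i.left := by
      rintro _ ⟨p, rfl⟩
      rwa [Subsingleton.elim (α := PrimeSpectrum k) p c]
    refine ⟨Over.homMk (IsOpenImmersion.lift i.left d.left hsub) ?_, ?_⟩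
    · rw [← Over.w i, IsOpenImmersion.lift_fac_assoc]
      exact Over.w d
    · ext1
      exact IsOpenImmersion.lift_fac _ _ _
  rw [← hr] at ha hb ⊢
  obtain ⟨a₀, rfl⟩ := fac a ha
  obtain ⟨b₀, rfl⟩ := fac b hb
  rw [← GrpObj.inv_comp, ← MonObj.mul_comp]
  exact ⟨(a₀ * b₀⁻¹).left c, rfl⟩

lemma conj_mem (a b : 𝟙_ (Over (Spec (CommRingCat.of k))) ⟶ H) (c : Spec (CommRingCat.of k))
    (hb : b.left c ∈ connectedComponent (η[H].left (IsLocalRing.closedPoint k))) :
    (a * b * a⁻¹).left c ∈ connectedComponent (η[H].left (IsLocalRing.closedPoint k)) := by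
  let κ : H ⟶ H := (toUnit H ≫ a) * 𝟙 H * (toUnit H ≫ a)⁻¹
  have hκ : ∀ d : 𝟙_ (Over (Spec (CommRingCat.of k))) ⟶ H, d ≫ κ = a * d * a⁻¹ := fun d => by
    simp only [κ, MonObj.comp_mul, GrpObj.comp_inv, ← Category.assoc,
      toUnit_unique (d ≫ toUnit H) (𝟙 _), Category.id_comp, Category.comp_id]
  rw [← hκ]
  have h1 : κ.left (η[H].left (IsLocalRing.closedPoint k)) = η[H].left (IsLocalRing.closedPoint k) := by
    have : η[H] ≫ κ = η[H] := by
      rw [hκ, eq_one_unit, _root_.mul_one, mul_inv_cancel]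
    exact congrArg (fun (f : 𝟙_ (Over (Spec (CommRingCat.of k))) ⟶ H) => f.left (IsLocalRing.closedPoint k)) this
  have := κ.left.continuous.image_connectedComponent_subset _ ⟨_, hb, rfl⟩
  rwa [h1] at this

/-- Connected components of a group scheme locally of finite type over a field are quasi-compact. -/
theorem isCompact_connectedComponent (x : H.left) : IsCompact (connectedComponent x) := by
  let f : Spec (CommRingCat.of (AlgebraicClosure k)) ⟶ Spec (CommRingCat.of k) :=
    Spec.map (CommRingCat.ofHom (algebraMap k (AlgebraicClosure k)))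
  have : IsIntegralHom f := IsIntegralHom.SpecMap_iff.2 (algebraMap_isIntegral_iff.2 inferInstance)
  have : Surjective f := ⟨Function.surjective_to_subsingleton
    (α := PrimeSpectrum (AlgebraicClosure k)) (β := PrimeSpectrum k) _⟩
  have : LocallyOfFiniteType (GK f H).hom := inferInstanceAs (LocallyOfFiniteType (pullback.snd H.hom f))
  have : JacobsonSpace (GK f H).left := LocallyOfFiniteType.jacobsonSpace (GK f H).hom
  have : JacobsonSpace H.left := LocallyOfFiniteType.jacobsonSpace H.hom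
  obtain ⟨z, hzC, hz⟩ := nonempty_inter_closedPoints (X := H.left) (Z := connectedComponent x)
    ⟨x, mem_connectedComponent⟩ isClosed_connectedComponent.isLocallyClosed
  rw [← connectedComponent_eq_iff_mem.2 hzC]
  obtain ⟨z₀, hz₀⟩ := (pr f H).surjective z
  obtain ⟨w, hw : pr f H w = z, hwc⟩ := nonempty_inter_closedPoints (X := (GK f H).left)
    (Z := pr f H ⁻¹' {z}) ⟨z₀, hz₀⟩ (IsClosed.preimage (pr f H).continuous hz).isLocallyClosed
  subst hw
  obtain ⟨g, rfl⟩ := exists_ratPoint (GK f H) hwc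
  obtain ⟨H₀, _, i, _, hi, hic, hr, _, _, _⟩ := exists_neutralComponent (GK f H)
  have : CompactSpace H₀.left := compactSpace_of_irreducibleSpace H₀
  have : IsIso (translate g).hom.left :=
    inferInstanceAs (IsIso ((Over.forget _).map (translate g).hom))
  set C := connectedComponent (η[GK f H].left (IsLocalRing.closedPoint (AlgebraicClosure k)))
  have hCo : IsOpen C := hr ▸ i.left.isOpenEmbedding.isOpen_range
  have hCc : IsCompact C := hr ▸ isCompact_range i.left.continuous
  let h : (GK f H).left ⟶ H.left := (translate g).hom.left ≫ pr f H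
  have : IsIntegralHom h := inferInstance
  have : UniversallyOpen (pr f H) := inferInstanceAs (UniversallyOpen (pullback.fst H.hom f))
  have hio : IsOpenMap h := (pr f H).isOpenMap.comp (translate g).hom.left.homeomorph.isOpenMap
  have hclopen : IsClopen (h '' C) :=
    ⟨h.isClosedMap _ isClosed_connectedComponent, hio _ hCo⟩
  have hzmem : pr f H (g.left (IsLocalRing.closedPoint (AlgebraicClosure k))) ∈ h '' C := by
    refine ⟨_, mem_connectedComponent, ?_⟩
    rw [Scheme.Hom.comp_apply, translate_one_apply]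
  have hsub := hclopen.connectedComponent_subset hzmem
  have hsub2 := (isPreconnected_connectedComponent.image h h.continuous.continuousOn).subset_connectedComponent
    hzmem
  rw [hsub.antisymm hsub2]
  exact hCc.image h.continuous

end Field

variable {S : Scheme.{u}} {G : Over S} [GrpObj G]
  (hG : ∀ s : S, LocallyOfFiniteType (G.hom.fiberToSpecResidueField s))

include hG

/-- The point of the base change over the residue field of a point of `T`. -/
lemma exists_point {T : Over S} (x : T.left) :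
    ∃ (σ : Spec (CommRingCat.of ↑(T.left.residueField x)) ⟶ S)
      (t : 𝟙_ (Over (Spec (CommRingCat.of ↑(T.left.residueField x)))) ⟶ (Over.pullback σ).obj T),
      LocallyOfFiniteType (GK σ G).hom ∧
      ∀ g : T ⟶ G, pr σ G ((t ≫ (Over.pullback σ).map g).left
        (IsLocalRing.closedPoint ↑(T.left.residueField x))) = g.left x := by
  let q : Spec (CommRingCat.of ↑(T.left.residueField x)) ⟶ T.left := T.left.fromSpecResidueField x
  refine ⟨q ≫ T.hom, sec q rfl, locallyOfFiniteType_GK _ hG, fun g => ?_⟩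
  have := congrArg (fun (f : Spec (CommRingCat.of ↑(T.left.residueField x)) ⟶ G.left) =>
    f (IsLocalRing.closedPoint ↑(T.left.residueField x))) (sec_map_fst (σ := q ≫ T.hom) q rfl g)
  exact this.trans (congrArg g.left (T.left.fromSpecResidueField_apply x _))

theorem mul_inv_mem_neutralSet {T : Over S} (g h : T ⟶ G) (x : T.left)
    (hg : g.left x ∈ SGA3x.neutralSet G) (hh : h.left x ∈ SGA3x.neutralSet G) :
    (g * h⁻¹).left x ∈ SGA3x.neutralSet G := by
  obtain ⟨σ, t, _, ht⟩ := exists_point hG x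
  rw [← ht, ← Set.mem_preimage, preimage_neutralSet σ hG] at hg hh ⊢
  rw [Functor.map_mul, Functor.map_inv', MonObj.comp_mul, GrpObj.comp_inv]
  exact mul_inv_mem _ _ _ hg hh

theorem conj_mem_neutralSet {T : Over S} (g n : T ⟶ G) (x : T.left)
    (hn : n.left x ∈ SGA3x.neutralSet G) : (g * n * g⁻¹).left x ∈ SGA3x.neutralSet G := by
  obtain ⟨σ, t, _, ht⟩ := exists_point hG x
  rw [← ht, ← Set.mem_preimage, preimage_neutralSet σ hG] at hn ⊢
  rw [Functor.map_mul, Functor.map_mul, Functor.map_inv', MonObj.comp_mul, MonObj.comp_mul,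
    GrpObj.comp_inv]
  exact conj_mem _ _ _ hn

theorem exists_compact_open_supset [CompactSpace S] [QuasiSeparatedSpace S] :
    ∃ U : G.left.Opens, IsCompact (U : Set G.left) ∧ SGA3x.neutralSet G ⊆ U := by
  have hV : ∀ {K : Set G.left}, IsCompact K → ∃ V : G.left.Opens, IsCompact (V : Set G.left) ∧ K ⊆ V := by
    intro K hK
    obtain ⟨I, hI⟩ := hK.elim_finite_subcover (fun V : G.left.affineOpens => (V.1 : Set G.left))
      (fun V => V.1.2) fun x _ => by
        obtain ⟨_, ⟨V, hV, rfl⟩, hxV, -⟩ := G.left.isBasis_affineOpens.exists_subset_of_mem_open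
          (Set.mem_univ x) isOpen_univ
        exact Set.mem_iUnion.2 ⟨⟨V, hV⟩, hxV⟩
    refine ⟨⨆ V ∈ I, V.1, ?_, by simpa using hI⟩
    simp only [TopologicalSpace.Opens.coe_iSup]
    exact I.isCompact_biUnion fun V _ => V.2.isCompact
  have : CompactSpace ↥(𝟙_ (Over S)).left := ‹CompactSpace S›
  obtain ⟨U, hUc, hU⟩ := hV (isCompact_range η[G].left.continuous)
  have : CompactSpace U.toScheme := isCompact_iff_compactSpace.1 hUc
  have : QuasiCompact (U.ι ≫ G.hom) := inferInstance
  have : CompactSpace ↥(pullback (U.ι ≫ G.hom) (U.ι ≫ G.hom)) :=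
    QuasiCompact.compactSpace_of_compactSpace (pullback.fst (U.ι ≫ G.hom) (U.ι ≫ G.hom))
  let q : pullback (U.ι ≫ G.hom) (U.ι ≫ G.hom) ⟶ (G ⊗ G).left :=
    pullback.map _ _ G.hom G.hom U.ι U.ι (𝟙 _) (by simp) (by simp)
  obtain ⟨V, hVc, hV'⟩ := hV ((isCompact_range q.continuous).image μ[G].left.continuous)
  refine ⟨V, hVc, fun z hz => hV' ?_⟩
  have hqr : Set.range q = (fst G G).left ⁻¹' U ∩ (snd G G).left ⁻¹' U := by
    have := Scheme.Pullback.range_map (U.ι ≫ G.hom) (U.ι ≫ G.hom) G.hom G.hom U.ι U.ι (𝟙 _)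
      (by simp) (by simp)
    rw [this, Scheme.Opens.range_ι]
    rfl
  rw [hqr]
  obtain ⟨s, hs⟩ : ∃ s, G.hom z = s := ⟨_, rfl⟩
  let σ := fromPt s
  have := locallyOfFiniteType_GK σ hG
  obtain ⟨z₁, rfl⟩ : z ∈ Set.range (pr σ G) := by rw [range_pr]; exact hs
  have hz₁ : z₁ ∈ pr σ G ⁻¹' SGA3x.neutralSet G := hz
  rw [preimage_neutralSet σ hG] at hz₁
  obtain ⟨H₀, _, i, _, hi, _, hr, _, _, _⟩ := exists_neutralComponent (GK σ G)
  rw [← hr] at hz₁
  obtain ⟨z₀, rfl⟩ := hz₁
  let O : Set H₀.left := (i.left ≫ pr σ G) ⁻¹' U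
  have hOne : O.Nonempty := by
    refine ⟨η[H₀].left (IsLocalRing.closedPoint ↑(S.residueField s)), ?_⟩
    show pr σ G ((η[H₀] ≫ i).left _) ∈ (U : Set G.left)
    rw [IsMonHom.one_hom, pr_one]
    exact hU ⟨_, rfl⟩
  have hOo : IsOpen O := U.2.preimage (i.left ≫ pr σ G).continuous
  have hd : Dense O := hOo.dense hOne
  obtain ⟨w, ⟨hw1, hw2⟩, hw⟩ := (mul_image_dense_eq_univ H₀ hOo hd hd).symm.le (Set.mem_univ z₀)
  let F := Over.pullback σ
  let Φ : (H₀ ⊗ H₀).left ⟶ (G ⊗ G).left :=
    (lift (fst H₀ H₀ ≫ i) (snd H₀ H₀ ≫ i) ≫ Functor.LaxMonoidal.μ F G G).left ≫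
      pullback.fst (G ⊗ G).hom σ
  have hmap : ∀ f : G ⊗ G ⟶ G, (F.map f).left ≫ pr σ G = pullback.fst (G ⊗ G).hom σ ≫ f.left :=
    fun f => pullback.lift_fst _ _ _
  have hμ1 : Functor.LaxMonoidal.μ F G G ≫ F.map (fst G G) = fst _ _ := by
    rw [← Functor.OplaxMonoidal.δ_fst, Functor.Monoidal.μ_δ_assoc]
  have hμ2 : Functor.LaxMonoidal.μ F G G ≫ F.map (snd G G) = snd _ _ := by
    rw [← Functor.OplaxMonoidal.δ_snd, Functor.Monoidal.μ_δ_assoc]
  have h1 : Φ ≫ (fst G G).left = (fst H₀ H₀).left ≫ i.left ≫ pr σ G := by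
    simp only [Φ, Category.assoc]
    rw [← hmap, ← Category.assoc, ← Over.comp_left, Category.assoc, hμ1, lift_fst, Over.comp_left,
      Category.assoc]
  have h2 : Φ ≫ (snd G G).left = (snd H₀ H₀).left ≫ i.left ≫ pr σ G := by
    simp only [Φ, Category.assoc]
    rw [← hmap, ← Category.assoc, ← Over.comp_left, Category.assoc, hμ2, lift_snd, Over.comp_left,
      Category.assoc]
  have h3 : Φ ≫ μ[G].left = μ[H₀].left ≫ i.left ≫ pr σ G := by
    simp only [Φ, Category.assoc]
    rw [← hmap, ← Category.assoc, ← Over.comp_left]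
    rw [← Category.assoc, ← Over.comp_left]
    congr 2
    rw [IsMonHom.mul_hom, Category.assoc]
    congr 1
  refine ⟨Φ w, ⟨?_, ?_⟩, ?_⟩
  · rw [Set.mem_preimage, ← Scheme.Hom.comp_apply, h1]
    exact hw1
  · rw [Set.mem_preimage, ← Scheme.Hom.comp_apply, h2]
    exact hw2
  · rw [← Scheme.Hom.comp_apply, h3, Scheme.Hom.comp_apply, hw]
    rfl

/-- An open subgroup contains the neutral set, and corresponds. -/
theorem neutralSet_openSubgroup {H : Over S} [GrpObj H] (i : H ⟶ G) [IsMonHom i]
    [IsOpenImmersion i.left] :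
    SGA3x.neutralSet G ⊆ Set.range i.left ∧ i.left '' SGA3x.neutralSet H = SGA3x.neutralSet G := by
  have hfib : ∀ s : S, ∃ ψ : GK (fromPt s) H ⟶ GK (fromPt s) G, IsOpenImmersion ψ.left ∧
      IsClosed (Set.range ψ.left) ∧
      (∀ w, pr (fromPt s) G (ψ.left w) = i.left (pr (fromPt s) H w)) ∧
      (∀ c, ψ.left (η[GK (fromPt s) H].left c) = η[GK (fromPt s) G].left c) := by
    intro s
    let ψ := (Over.pullback (fromPt s)).map i
    have : IsOpenImmersion ψ.left := by
      have hp : IsOpenImmersion (pullback.map H.hom (fromPt s) G.hom (fromPt s) i.left (𝟙 _) (𝟙 _)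
          (by simp [Over.w i]) (by simp)) := inferInstance
      have e : ψ.left = pullback.map H.hom (fromPt s) G.hom (fromPt s) i.left (𝟙 _) (𝟙 _)
          (by simp [Over.w i]) (by simp) := by
        refine pullback.hom_ext ?_ ?_
        · exact (pullback.lift_fst _ _ _).trans (pullback.lift_fst _ _ _).symm
        · exact ((pullback.lift_snd _ _ _).trans (Category.comp_id _).symm).trans
            (pullback.lift_snd _ _ _).symm
      rw [e]
      exact hp
    have hone : η[GK (fromPt s) H] ≫ ψ = η[GK (fromPt s) G] := IsMonHom.one_hom ψ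
    refine ⟨ψ, this, GrpSch.isClosed_range_of_isOpen_range ψ this.base_open.isOpen_range, fun w => ?_,
      fun c => congrArg (fun (f : 𝟙_ _ ⟶ GK (fromPt s) G) => f.left c) hone⟩
    exact congrArg (fun (f : (GK (fromPt s) H).left ⟶ G.left) => f w) (pullback.lift_fst _ _ _)
  have hN : SGA3x.neutralSet G ⊆ Set.range i.left := by
    intro z hz
    obtain ⟨s, hs⟩ : ∃ s, G.hom z = s := ⟨_, rfl⟩
    obtain ⟨ψ, hψo, hψc, hψ, hψ1⟩ := hfib s
    obtain ⟨w, rfl⟩ : z ∈ Set.range (pr (fromPt s) G) := by rw [range_pr]; exact hs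
    have hw : w ∈ pr _ G ⁻¹' SGA3x.neutralSet G := hz
    rw [preimage_neutralSet _ hG] at hw
    obtain ⟨v, rfl⟩ := IsClopen.connectedComponent_subset ⟨hψc, hψo.base_open.isOpen_range⟩
      ⟨_, hψ1 _⟩ hw
    exact ⟨_, (hψ v).symm⟩
  refine ⟨hN, Set.Subset.antisymm ?_ fun z hz => ?_⟩
  · rintro _ ⟨y, hy, rfl⟩
    have hs : G.hom (i.left y) = H.hom y :=
      congrArg (fun (f : H.left ⟶ S) => f y) (Over.w i)
    rw [mem_neutralSet, hs]
    have h1 : i.left (η[H].left (H.hom y)) = η[G].left (H.hom y) :=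
      congrArg (fun (f : 𝟙_ (Over S) ⟶ G) => f.left (H.hom y)) (IsMonHom.one_hom i)
    refine (isPreconnected_connectedComponentIn.image _ i.left.continuous.continuousOn).subset_connectedComponentIn
      ?_ ?_ ⟨y, mem_neutralSet.1 hy, rfl⟩
    · exact ⟨_, mem_connectedComponentIn (hom_one _), h1⟩
    · rintro _ ⟨v, hv, rfl⟩
      have hv' := connectedComponentIn_subset _ _ hv
      exact (congrArg (fun (f : H.left ⟶ S) => f v) (Over.w i)).trans hv'
  · obtain ⟨y, rfl⟩ := hN hz
    refine ⟨y, ?_, rfl⟩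
    have hs : G.hom (i.left y) = H.hom y :=
      congrArg (fun (f : H.left ⟶ S) => f y) (Over.w i)
    set C := connectedComponentIn (G.hom ⁻¹' {H.hom y}) (η[G].left (H.hom y))
    have hC : C ⊆ Set.range i.left := fun a ha => hN (by
      rw [show C = connectedComponentIn (G.hom ⁻¹' {H.hom y}) (η[G].left (H.hom y)) from rfl,
        ← neutralSet_inter_fibre] at ha
      exact ha.1)
    rw [mem_neutralSet, hs] at hz
    rw [mem_neutralSet]
    have hpre : _root_.IsPreconnected (i.left ⁻¹' C) := by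
      rw [← i.left.isOpenEmbedding.isInducing.isPreconnected_image, Set.image_preimage_eq_of_subset hC]
      exact isPreconnected_connectedComponentIn
    refine hpre.subset_connectedComponentIn ?_ ?_ hz
    · show i.left (η[H].left (H.hom y)) ∈ C
      rw [show i.left (η[H].left (H.hom y)) = η[G].left (H.hom y) from
        congrArg (fun (f : 𝟙_ (Over S) ⟶ G) => f.left (H.hom y)) (IsMonHom.one_hom i)]
      exact mem_connectedComponentIn (hom_one _)
    · intro v hv
      have hv' := connectedComponentIn_subset _ _ hv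
      exact (congrArg (fun (f : H.left ⟶ S) => f v) (Over.w i)).symm.trans hv'

end Groth.Agent.Neutral0
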